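import Mathlib.Algebra.Homology.Additive
import Mathlib.Algebra.Homology.ComplexShape
import Mathlib.Algebra.Homology.HomotopyCategory

/-!
# Abstract coherence of comparison isomorphisms: the level of complexes
-/

set_option autoImplicit false

open CategoryTheory CategoryTheory.Limits

namespace K294.AbsCx

variable {𝒜 ℬ 𝒞 𝒳 𝒴 𝒵 : Type*} [Category* 𝒜] [Category* ℬ] [Category* 𝒞]
  [Category* 𝒳] [Category* 𝒴] [Category* 𝒵] [Preadditive 𝒜] [Preadditive ℬ] [Preadditive 𝒞]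
  [Preadditive 𝒳] [Preadditive 𝒴] [Preadditive 𝒵]

/-- A comparison on complexes. -/
def mk {F : 𝒜 ⥤ 𝒳} {P : 𝒳 ⥤ 𝒴} {E : 𝒜 ⥤ ℬ} {T : ℬ ⥤ 𝒴} [F.Additive] [P.Additive] [E.Additive]
    [T.Additive] (m : F ⋙ P ⟶ E ⋙ T) (K : HomologicalComplex 𝒜 (ComplexShape.up ℤ)) :
    (P.mapHomologicalComplex (ComplexShape.up ℤ)).obj
        ((F.mapHomologicalComplex (ComplexShape.up ℤ)).obj K) ⟶
      (T.mapHomologicalComplex (ComplexShape.up ℤ)).obj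
        ((E.mapHomologicalComplex (ComplexShape.up ℤ)).obj K) where
  f i := m.app (K.X i)
  comm' i j _ := (m.naturality (K.d i j)).symm

/-- A comparison on complexes. -/
def mkE {F : 𝒜 ⥤ 𝒳} {P : 𝒳 ⥤ 𝒴} {E : 𝒜 ⥤ 𝒴} [F.Additive] [P.Additive] [E.Additive]
    (m : E ⟶ F ⋙ P) (K : HomologicalComplex 𝒜 (ComplexShape.up ℤ)) :
    (E.mapHomologicalComplex (ComplexShape.up ℤ)).obj K ⟶
      (P.mapHomologicalComplex (ComplexShape.up ℤ)).obj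
        ((F.mapHomologicalComplex (ComplexShape.up ℤ)).obj K) where
  f i := m.app (K.X i)
  comm' i j _ := (m.naturality (K.d i j)).symm

/-- Coherence on complexes. -/
theorem coh {TA : 𝒜 ⥤ 𝒳} {TB : ℬ ⥤ 𝒴} {TC : 𝒞 ⥤ 𝒵} {E₁ : 𝒜 ⥤ ℬ} {E₂ : ℬ ⥤ 𝒞} {E₃ : 𝒜 ⥤ 𝒞}
    {P₁ : 𝒳 ⥤ 𝒴} {P₂ : 𝒴 ⥤ 𝒵} {P₃ : 𝒳 ⥤ 𝒵} [TA.Additive] [TB.Additive] [TC.Additive]
    [E₁.Additive] [E₂.Additive] [E₃.Additive] [P₁.Additive] [P₂.Additive] [P₃.Additive]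
    (m₁ : TA ⋙ P₁ ⟶ E₁ ⋙ TB) (m₂ : TB ⋙ P₂ ⟶ E₂ ⋙ TC) (m₃ : TA ⋙ P₃ ⟶ E₃ ⋙ TC)
    (u : P₃ ⟶ P₁ ⋙ P₂) (ε : E₃ ⟶ E₁ ⋙ E₂)
    (H : ∀ M : 𝒜, u.app (TA.obj M) ≫ P₂.map (m₁.app M) ≫ m₂.app (E₁.obj M) =
      m₃.app M ≫ TC.map (ε.app M)) (K : HomologicalComplex 𝒜 (ComplexShape.up ℤ)) :
    mkE u ((TA.mapHomologicalComplex (ComplexShape.up ℤ)).obj K) ≫
      (P₂.mapHomologicalComplex (ComplexShape.up ℤ)).map (mk m₁ K) ≫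
      mk m₂ ((E₁.mapHomologicalComplex (ComplexShape.up ℤ)).obj K) =
    mk m₃ K ≫ (TC.mapHomologicalComplex (ComplexShape.up ℤ)).map (mkE ε K) := by
  ext i : 1
  exact H (K.X i)

end K294.AbsCx
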