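import Mathlib.CategoryTheory.Adjunction.Unique
import Mathlib.CategoryTheory.Adjunction.Mates

/-!
# Abstract coherence of comparison isomorphisms: the derived level
-/

set_option autoImplicit false

open CategoryTheory CategoryTheory.Functor

namespace K294.AbsDer

section Fac

variable {DA DB DX DY : Type*} [Category* DA] [Category* DB] [Category* DX] [Category* DY]
  {TA : DA ⥤ DX} {TB : DB ⥤ DY} {LP : DX ⥤ DY} {LB : DA ⥤ DB}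

/-- From the homotopy category to complexes. -/
theorem abs_fac {QP QhP : DA} {QhE QE : DB} {QhPT QPT : DX} {QhET QET QhPTp QPTp : DY}
    (a : QP ⟶ QhP) (cB' : LB.obj QhP ⟶ QhE) (bE : QhE ⟶ QE) (cB : LB.obj QP ⟶ QE)
    (hcB : cB = LB.map a ≫ cB' ≫ bE)
    (fB : TB.obj QhE ⟶ QhET) (tB : TB.obj QE ⟶ QET) (bET : QhET ⟶ QET)
    (hB : TB.map bE ≫ tB = fB ≫ bET)
    (fA : TA.obj QhP ⟶ QhPT) (tA : TA.obj QP ⟶ QPT) (aPT : QPT ⟶ QhPT)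
    (hA : TA.map a ≫ fA = tA ≫ aPT)
    (l : LP.obj QhPT ⟶ QhPTp) (bPTp : QhPTp ⟶ QPTp) (cn : LP.obj QPT ⟶ QPTp)
    (hcn : cn = LP.map aPT ≫ l ≫ bPTp)
    (mh : QhPTp ⟶ QhET) (m : QPTp ⟶ QET) (hm : mh ≫ bET = bPTp ≫ m)
    (s : LP.obj (TA.obj QP) ⟶ TB.obj (LB.obj QP)) (sh : LP.obj (TA.obj QhP) ⟶ TB.obj (LB.obj QhP))
    (hnat : s ≫ TB.map (LB.map a) = LP.map (TA.map a) ≫ sh)
    (hs : sh ≫ TB.map cB' ≫ fB = LP.map fA ≫ l ≫ mh) :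
    s ≫ TB.map cB ≫ tB = LP.map tA ≫ cn ≫ m := by
  subst hcB hcn
  rw [Functor.map_comp, Functor.map_comp]
  simp only [Category.assoc]
  rw [reassoc_of% hnat, hB, reassoc_of% hs, hm, ← Functor.map_comp_assoc, hA, Functor.map_comp_assoc]

end Fac

section Coh

variable {DA DB DC DX DY DZ : Type*} [Category* DA] [Category* DB] [Category* DC] [Category* DX]
  [Category* DY] [Category* DZ]
  {TA : DA ⥤ DX} {TB : DB ⥤ DY} {TC : DC ⥤ DZ}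
  {LP₁ : DX ⥤ DY} {LP₂ : DY ⥤ DZ} {LP₃ : DX ⥤ DZ} {LB₁ : DA ⥤ DB} {LB₂ : DB ⥤ DC} {LB₃ : DA ⥤ DC}

/-- The coherence on a good object. -/
theorem abs_coh (s₂ : TB ⋙ LP₂ ⟶ LB₂ ⋙ TC) (lc : LP₃ ⟶ LP₁ ⋙ LP₂)
    {K : DA} {K₁ : DB} {K₂ K₃ : DC} {X : DX} {X₁ Y₁ : DY} {Y₁' Z₂ X₃ Z₃ X₁' : DZ}
    (s₁ : LP₁.obj (TA.obj K) ⟶ TB.obj (LB₁.obj K)) (s₃ : LP₃.obj (TA.obj K) ⟶ TC.obj (LB₃.obj K))
    (cmp : LB₃.obj K ⟶ LB₂.obj (LB₁.obj K))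
    (c₁ : LB₁.obj K ⟶ K₁) (t₁ : TB.obj K₁ ⟶ Y₁) (tA : TA.obj K ⟶ X) (n₁ : LP₁.obj X ⟶ X₁)
    (m₁ : X₁ ⟶ Y₁) (fac₁ : s₁ ≫ TB.map c₁ ≫ t₁ = LP₁.map tA ≫ n₁ ≫ m₁)
    (c₂ : LB₂.obj K₁ ⟶ K₂) (t₂ : TC.obj K₂ ⟶ Z₂) (n₂ : LP₂.obj Y₁ ⟶ Y₁') (m₂ : Y₁' ⟶ Z₂)
    (fac₂ : s₂.app K₁ ≫ TC.map c₂ ≫ t₂ = LP₂.map t₁ ≫ n₂ ≫ m₂)
    (c₃ : LB₃.obj K ⟶ K₃) (t₃ : TC.obj K₃ ⟶ Z₃) (n₃ : LP₃.obj X ⟶ X₃) (m₃ : X₃ ⟶ Z₃)
    (fac₃ : s₃ ≫ TC.map c₃ ≫ t₃ = LP₃.map tA ≫ n₃ ≫ m₃)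
    (n₂' : LP₂.obj X₁ ⟶ X₁') (pm : X₁' ⟶ Y₁') (hn : LP₂.map m₁ ≫ n₂ = n₂' ≫ pm)
    (u : X₃ ⟶ X₁') (hlc : lc.app X ≫ LP₂.map n₁ ≫ n₂' = n₃ ≫ u)
    (tem : Z₃ ⟶ Z₂) (hmod : u ≫ pm ≫ m₂ = m₃ ≫ tem)
    (dem : K₃ ⟶ K₂) (ht : TC.map dem ≫ t₂ = t₃ ≫ tem)
    (hlbc : cmp ≫ LB₂.map c₁ ≫ c₂ = c₃ ≫ dem)
    [IsIso c₁] [IsIso c₂] [IsIso t₂] :
    lc.app (TA.obj K) ≫ LP₂.map s₁ ≫ s₂.app (LB₁.obj K) = s₃ ≫ TC.map cmp := by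
  rw [← cancel_mono (TC.map (LB₂.map c₁) ≫ TC.map c₂ ≫ t₂)]
  have n1 := s₂.naturality c₁
  have n2 := lc.naturality tA
  simp only [Functor.comp_obj, Functor.comp_map] at n1 n2
  have e1 : LP₂.map s₁ ≫ LP₂.map (TB.map c₁) ≫ LP₂.map t₁ =
      LP₂.map (LP₁.map tA) ≫ LP₂.map n₁ ≫ LP₂.map m₁ := by
    simp only [← Functor.map_comp, fac₁]
  calc _ = lc.app (TA.obj K) ≫ LP₂.map s₁ ≫ (s₂.app (LB₁.obj K) ≫ TC.map (LB₂.map c₁)) ≫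
          TC.map c₂ ≫ t₂ := by simp only [Category.assoc]
    _ = lc.app (TA.obj K) ≫ (LP₂.map s₁ ≫ LP₂.map (TB.map c₁) ≫ LP₂.map t₁) ≫ n₂ ≫ m₂ := by
        rw [← n1]
        simp only [Category.assoc]
        rw [fac₂]
    _ = (lc.app (TA.obj K) ≫ LP₂.map (LP₁.map tA)) ≫ LP₂.map n₁ ≫ (LP₂.map m₁ ≫ n₂) ≫ m₂ := by
        rw [e1]
        simp only [Category.assoc]
    _ = LP₃.map tA ≫ (lc.app X ≫ LP₂.map n₁ ≫ n₂') ≫ pm ≫ m₂ := by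
        rw [← n2, hn]
        simp only [Category.assoc]
    _ = (LP₃.map tA ≫ n₃ ≫ m₃) ≫ tem := by
        rw [hlc, Category.assoc, hmod]
        simp only [Category.assoc]
    _ = s₃ ≫ TC.map (c₃ ≫ dem) ≫ t₂ := by
        rw [← fac₃, Functor.map_comp]
        simp only [Category.assoc]
        rw [ht]
    _ = _ := by
        rw [← hlbc]
        simp only [Functor.map_comp, Category.assoc]

/-- Natural transformations agreeing at an object agree at isomorphic objects. -/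
theorem app_eq_of_iso {F G : DA ⥤ DZ} (α β : F ⟶ G) {K E : DA} (e : K ≅ E) (h : α.app K = β.app K) :
    α.app E = β.app E := by
  rw [← cancel_epi (F.map e.hom), α.naturality, β.naturality, h]

end Coh

section Lbc

variable {DA DB DC : Type*} [Category* DA] [Category* DB] [Category* DC]
  {L₁ : DA ⥤ DB} {R₁ : DB ⥤ DA} (a₁ : L₁ ⊣ R₁) {L₂ : DB ⥤ DC} {R₂ : DC ⥤ DB} (a₂ : L₂ ⊣ R₂)
  {L₃ : DA ⥤ DC} {R₃ : DC ⥤ DA} (a₃ : L₃ ⊣ R₃) (rc : R₂ ⋙ R₁ ≅ R₃)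

/-- The comparison of left adjoints, characterized by the unit. -/
theorem unit_uniq (E : DA) :
    a₁.unit.app E ≫ R₁.map (a₂.unit.app (L₁.obj E)) ≫ rc.hom.app (L₂.obj (L₁.obj E)) ≫
      R₃.map ((((a₁.comp a₂).ofNatIsoRight rc).leftAdjointUniq a₃).hom.app E) = a₃.unit.app E := by
  have h := Adjunction.unit_leftAdjointUniq_hom_app ((a₁.comp a₂).ofNatIsoRight rc) a₃ E
  have h3 : ((a₁.comp a₂).ofNatIsoRight rc).unit.app E =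
      a₁.unit.app E ≫ R₁.map (a₂.unit.app (L₁.obj E)) ≫ rc.hom.app (L₂.obj (L₁.obj E)) := by
    simp [Adjunction.ofNatIsoRight]
  rw [h3] at h
  simpa only [Category.assoc] using h

/-- The value of the comparison of left adjoints. -/
theorem uniq_fac {K : DA} {K₁ : DB} {K₂ K₃ : DC} {r₁ r₁₂ r₃₂ r₃₃ : DA} {r₂ : DB}
    (c₁ : L₁.obj K ⟶ K₁) (c₂ : L₂.obj K₁ ⟶ K₂) (c₃ : L₃.obj K ⟶ K₃) (dem : K₃ ⟶ K₂)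
    -- restrictions of `K₁, K₂, K₃` on complexes
    (ρ₁ : r₁ ⟶ R₁.obj K₁) (ρ₂ : r₂ ⟶ R₂.obj K₂) (ρ₃ : r₃₃ ⟶ R₃.obj K₃) (ρ₃' : r₃₂ ⟶ R₃.obj K₂)
    (ρ₁₂ : r₁₂ ⟶ R₁.obj r₂)
    (η₁ : K ⟶ r₁) (h₁ : a₁.unit.app K ≫ R₁.map c₁ = η₁ ≫ ρ₁)
    (η₂ : K₁ ⟶ r₂) (h₂ : a₂.unit.app K₁ ≫ R₂.map c₂ = η₂ ≫ ρ₂)
    (η₃ : K ⟶ r₃₃) (h₃ : a₃.unit.app K ≫ R₃.map c₃ = η₃ ≫ ρ₃)
    (rη₂ : r₁ ⟶ r₁₂) (h₄ : ρ₁ ≫ R₁.map η₂ = rη₂ ≫ ρ₁₂)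
    (rcx : r₁₂ ⟶ r₃₂) (h₅ : ρ₁₂ ≫ R₁.map ρ₂ ≫ rc.hom.app K₂ = rcx ≫ ρ₃')
    (rdem : r₃₃ ⟶ r₃₂) (h₆ : ρ₃ ≫ R₃.map dem = rdem ≫ ρ₃')
    (hmod : η₁ ≫ rη₂ ≫ rcx = η₃ ≫ rdem) :
    L₂.map c₁ ≫ c₂ = (((a₁.comp a₂).ofNatIsoRight rc).leftAdjointUniq a₃).hom.app K ≫ c₃ ≫ dem := by
  apply (((a₁.comp a₂).ofNatIsoRight rc).homEquiv _ _).injective
  have e0 : ∀ {N : DC} (f : L₂.obj (L₁.obj K) ⟶ N),
      ((a₁.comp a₂).ofNatIsoRight rc).homEquiv _ _ f =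
        a₁.unit.app K ≫ R₁.map (a₂.unit.app (L₁.obj K)) ≫ rc.hom.app (L₂.obj (L₁.obj K)) ≫
          R₃.map f := by
    intro N f
    rw [Adjunction.homEquiv_unit]
    simp [Adjunction.ofNatIsoRight]
  have n1 := rc.hom.naturality (L₂.map c₁ ≫ c₂)
  have n2 := a₂.unit.naturality c₁
  simp only [Functor.comp_obj, Functor.comp_map, Functor.id_obj, Functor.id_map] at n1 n2
  have u := unit_uniq a₁ a₂ a₃ rc K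
  refine (e0 _).trans (Eq.trans ?_ (e0 _).symm)
  calc _ = a₁.unit.app K ≫ R₁.map (a₂.unit.app (L₁.obj K) ≫ R₂.map (L₂.map c₁) ≫ R₂.map c₂) ≫
        rc.hom.app _ := by
        rw [← n1]
        simp only [Functor.map_comp, Category.assoc]
    _ = (a₁.unit.app K ≫ R₁.map c₁) ≫ R₁.map (a₂.unit.app K₁ ≫ R₂.map c₂) ≫ rc.hom.app _ := by
        rw [← reassoc_of% n2]
        simp only [Functor.map_comp, Category.assoc]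
    _ = η₁ ≫ (ρ₁ ≫ R₁.map η₂) ≫ R₁.map ρ₂ ≫ rc.hom.app _ := by
        rw [h₁, h₂]
        simp only [Functor.map_comp, Category.assoc]
    _ = (η₁ ≫ rη₂ ≫ rcx) ≫ ρ₃' := by
        rw [h₄, Category.assoc, h₅]
        simp only [Category.assoc]
    _ = (η₃ ≫ ρ₃) ≫ R₃.map dem := by
        rw [hmod, Category.assoc, Category.assoc, h₆]
    _ = a₃.unit.app K ≫ R₃.map (c₃ ≫ dem) := by
        rw [← h₃, Functor.map_comp, Category.assoc]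
    _ = _ := by
        rw [← u]
        simp only [Functor.map_comp, Category.assoc]

end Lbc

end K294.AbsDer
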