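import Mathlib.CategoryTheory.Adjunction.Unique
import Mathlib.CategoryTheory.Adjunction.Mates

/-!
# Abstract coherence of comparison isomorphisms
-/

set_option autoImplicit false

open CategoryTheory CategoryTheory.Functor

namespace K294.AbsTilde

section Mod

variable {𝒜 ℬ 𝒞 𝒳 𝒴 𝒵 : Type*} [Category* 𝒜] [Category* ℬ] [Category* 𝒞]
  [Category* 𝒳] [Category* 𝒴] [Category* 𝒵]
  {TA : 𝒜 ⥤ 𝒳} {ΓA : 𝒳 ⥤ 𝒜} (tA : TA ⊣ ΓA)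
  {TB : ℬ ⥤ 𝒴} {ΓB : 𝒴 ⥤ ℬ} (tB : TB ⊣ ΓB)
  {TC : 𝒞 ⥤ 𝒵} {ΓC : 𝒵 ⥤ 𝒞} (tC : TC ⊣ ΓC)
  {E₁ : 𝒜 ⥤ ℬ} {R₁ : ℬ ⥤ 𝒜} (e₁ : E₁ ⊣ R₁)
  {E₂ : ℬ ⥤ 𝒞} {R₂ : 𝒞 ⥤ ℬ} (e₂ : E₂ ⊣ R₂)
  {E₃ : 𝒜 ⥤ 𝒞} {R₃ : 𝒞 ⥤ 𝒜} (e₃ : E₃ ⊣ R₃)
  {P₁ : 𝒳 ⥤ 𝒴} {F₁ : 𝒴 ⥤ 𝒳} (p₁ : P₁ ⊣ F₁)
  {P₂ : 𝒴 ⥤ 𝒵} {F₂ : 𝒵 ⥤ 𝒴} (p₂ : P₂ ⊣ F₂)
  {P₃ : 𝒳 ⥤ 𝒵} {F₃ : 𝒵 ⥤ 𝒳} (p₃ : P₃ ⊣ F₃)
  (γ₁ : F₁ ⋙ ΓA ≅ ΓB ⋙ R₁) (γ₂ : F₂ ⋙ ΓB ≅ ΓC ⋙ R₂) (γ₃ : F₃ ⋙ ΓA ≅ ΓC ⋙ R₃)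
  (rc : R₂ ⋙ R₁ ≅ R₃) (fc : F₂ ⋙ F₁ ≅ F₃)

/-- Injectivity of the composite adjunction bijection. -/
theorem inj (M : 𝒜) (N : 𝒵) (f g : P₃.obj (TA.obj M) ⟶ N)
    (h : tA.unit.app M ≫ ΓA.map (p₃.unit.app (TA.obj M)) ≫ ΓA.map (F₃.map f) ≫ γ₃.hom.app N =
      tA.unit.app M ≫ ΓA.map (p₃.unit.app (TA.obj M)) ≫ ΓA.map (F₃.map g) ≫ γ₃.hom.app N) :
    f = g := by
  apply (p₃.homEquiv _ _).injective
  apply (tA.homEquiv _ _).injective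
  rw [Adjunction.homEquiv_unit, Adjunction.homEquiv_unit, Adjunction.homEquiv_unit,
    Adjunction.homEquiv_unit, ← cancel_mono (γ₃.hom.app N)]
  simpa only [Functor.map_comp, Category.assoc] using h

/-- The coherence at module level. -/
theorem abs_mod (M : 𝒜)
    (m₁ : P₁.obj (TA.obj M) ⟶ TB.obj (E₁.obj M))
    (m₂ : P₂.obj (TB.obj (E₁.obj M)) ⟶ TC.obj (E₂.obj (E₁.obj M)))
    (m₃ : P₃.obj (TA.obj M) ⟶ TC.obj (E₃.obj M))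
    (uc : P₃.obj (TA.obj M) ⟶ P₂.obj (P₁.obj (TA.obj M))) (em : E₃.obj M ⟶ E₂.obj (E₁.obj M))
    (hm₁ : tA.unit.app M ≫ ΓA.map (p₁.unit.app (TA.obj M)) ≫ ΓA.map (F₁.map m₁) ≫
      γ₁.hom.app (TB.obj (E₁.obj M)) = e₁.unit.app M ≫ R₁.map (tB.unit.app (E₁.obj M)))
    (hm₂ : tB.unit.app (E₁.obj M) ≫ ΓB.map (p₂.unit.app (TB.obj (E₁.obj M))) ≫ ΓB.map (F₂.map m₂) ≫
      γ₂.hom.app (TC.obj (E₂.obj (E₁.obj M))) =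
        e₂.unit.app (E₁.obj M) ≫ R₂.map (tC.unit.app (E₂.obj (E₁.obj M))))
    (hm₃ : tA.unit.app M ≫ ΓA.map (p₃.unit.app (TA.obj M)) ≫ ΓA.map (F₃.map m₃) ≫
      γ₃.hom.app (TC.obj (E₃.obj M)) = e₃.unit.app M ≫ R₃.map (tC.unit.app (E₃.obj M)))
    (huc : p₁.unit.app (TA.obj M) ≫ F₁.map (p₂.unit.app (P₁.obj (TA.obj M))) ≫
      fc.hom.app (P₂.obj (P₁.obj (TA.obj M))) = p₃.unit.app (TA.obj M) ≫ F₃.map uc)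
    (hem : e₁.unit.app M ≫ R₁.map (e₂.unit.app (E₁.obj M)) ≫ rc.hom.app (E₂.obj (E₁.obj M)) =
      e₃.unit.app M ≫ R₃.map em)
    (hγ : ∀ N, γ₁.hom.app (F₂.obj N) ≫ R₁.map (γ₂.hom.app N) ≫ rc.hom.app (ΓC.obj N) =
      ΓA.map (fc.hom.app N) ≫ γ₃.hom.app N) :
    uc ≫ P₂.map m₁ ≫ m₂ = m₃ ≫ TC.map em := by
  apply inj tA p₃ γ₃
  have n1 := fc.hom.naturality (P₂.map m₁ ≫ m₂)
  have n2 := p₂.unit.naturality m₁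
  have n3 := γ₁.hom.naturality (p₂.unit.app (TB.obj (E₁.obj M)) ≫ F₂.map m₂)
  have n4 := rc.hom.naturality (tC.unit.app (E₂.obj (E₁.obj M)))
  have n5 := γ₃.hom.naturality (TC.map em)
  have n6 := tC.unit.naturality em
  simp only [Functor.comp_obj, Functor.comp_map, Functor.id_obj, Functor.id_map] at n1 n2 n3 n4 n5 n6
  calc _ = tA.unit.app M ≫ ΓA.map (p₃.unit.app (TA.obj M) ≫ F₃.map uc) ≫
        ΓA.map (F₃.map (P₂.map m₁ ≫ m₂)) ≫ γ₃.hom.app _ := by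
        simp only [Functor.map_comp, Category.assoc]
    _ = tA.unit.app M ≫ ΓA.map (p₁.unit.app _ ≫ F₁.map (p₂.unit.app (P₁.obj (TA.obj M)))) ≫
        ΓA.map (fc.hom.app _ ≫ F₃.map (P₂.map m₁ ≫ m₂)) ≫ γ₃.hom.app _ := by
        rw [← huc]
        simp only [Functor.map_comp, Category.assoc]
    _ = tA.unit.app M ≫ ΓA.map (p₁.unit.app _ ≫ F₁.map (p₂.unit.app (P₁.obj (TA.obj M)) ≫
        F₂.map (P₂.map m₁) ≫ F₂.map m₂)) ≫ ΓA.map (fc.hom.app _) ≫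
          γ₃.hom.app _ := by
        rw [← n1]
        simp only [Functor.map_comp, Category.assoc]
    _ = tA.unit.app M ≫ ΓA.map (p₁.unit.app _ ≫ F₁.map (m₁ ≫ p₂.unit.app (TB.obj (E₁.obj M)) ≫
        F₂.map m₂)) ≫ γ₁.hom.app _ ≫ R₁.map (γ₂.hom.app _) ≫ rc.hom.app _ := by
        rw [← reassoc_of% n2, hγ]
    _ = (tA.unit.app M ≫ ΓA.map (p₁.unit.app _) ≫ ΓA.map (F₁.map m₁) ≫ γ₁.hom.app _) ≫
        R₁.map (ΓB.map (p₂.unit.app (TB.obj (E₁.obj M)) ≫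
        F₂.map m₂)) ≫ R₁.map (γ₂.hom.app _) ≫ rc.hom.app _ := by
        simp only [Functor.map_comp, Category.assoc] at n3 ⊢
        rw [reassoc_of% n3]
    _ = e₁.unit.app M ≫ R₁.map (tB.unit.app (E₁.obj M) ≫ ΓB.map (p₂.unit.app (TB.obj (E₁.obj M))) ≫
        ΓB.map (F₂.map m₂) ≫ γ₂.hom.app _) ≫ rc.hom.app _ := by
        rw [hm₁]
        simp only [Functor.map_comp, Category.assoc]
    _ = (e₁.unit.app M ≫ R₁.map (e₂.unit.app (E₁.obj M)) ≫ rc.hom.app (E₂.obj (E₁.obj M))) ≫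
        R₃.map (tC.unit.app (E₂.obj (E₁.obj M))) := by
        rw [hm₂]
        simp only [Functor.map_comp, Category.assoc]
        rw [n4]
    _ = (e₃.unit.app M ≫ R₃.map (tC.unit.app (E₃.obj M))) ≫ R₃.map (ΓC.map (TC.map em)) := by
        rw [hem, Category.assoc, Category.assoc, ← Functor.map_comp, ← Functor.map_comp, n6]
    _ = _ := by
        rw [← hm₃]
        simp only [Functor.map_comp, Category.assoc]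
        rw [n5]

/-- The unit property of a comparison defined by uniqueness of left adjoints. -/
theorem unit_of_leftAdjointUniq (M : 𝒜) :
    tA.unit.app M ≫ ΓA.map (p₁.unit.app (TA.obj M)) ≫
      ΓA.map (F₁.map ((((e₁.comp tB).ofNatIsoRight γ₁.symm).leftAdjointUniq (tA.comp p₁)).symm.hom.app M)) ≫
      γ₁.hom.app (TB.obj (E₁.obj M)) = e₁.unit.app M ≫ R₁.map (tB.unit.app (E₁.obj M)) := by
  have h := Adjunction.unit_leftAdjointUniq_hom_app (tA.comp p₁) ((e₁.comp tB).ofNatIsoRight γ₁.symm) M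
  have h2 : (((e₁.comp tB).ofNatIsoRight γ₁.symm).leftAdjointUniq (tA.comp p₁)).symm.hom =
    ((tA.comp p₁).leftAdjointUniq ((e₁.comp tB).ofNatIsoRight γ₁.symm)).hom := rfl
  have h3 : ((e₁.comp tB).ofNatIsoRight γ₁.symm).unit.app M =
      e₁.unit.app M ≫ R₁.map (tB.unit.app (E₁.obj M)) ≫ γ₁.inv.app (TB.obj (E₁.obj M)) := by
    simp [Adjunction.ofNatIsoRight]
  rw [h3] at h
  have h4 := congrArg (fun t => t ≫ γ₁.hom.app (TB.obj (E₁.obj M))) h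
  simp only [Adjunction.comp_unit_app, Functor.comp_map, Category.assoc, Iso.inv_hom_id_app,
    Functor.comp_obj, Category.comp_id] at h4
  rw [h2]
  exact h4

end Mod

end K294.AbsTilde
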