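import Groth.Agent.FlatMor.K294.AbsTilde
import Groth.Agent.FlatMor.K294.AbsCx
import Groth.Prelude.Def_DDual2
import Groth.Agent.Ega1.TildePullback
import Groth.Agent.LoccohB.LBC2
import Groth.Agent.Fixpt.H906.LPC

/-!
# Coherence of `(M ⊗_A B)~ ≅ f^*(M~)` for composites
-/

set_option autoImplicit false
universe u

open AlgebraicGeometry CategoryTheory CategoryTheory.Limits Opposite

namespace K294.TildeMod

open Groth.Agent.Ega1.TildePullback Groth.Agent.Fixpt.H906.LPC

section Push

variable {X Y Z : Scheme.{u}}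

/-- Composition of direct images. -/
noncomputable def fc (f : X ⟶ Y) (g : Y ⟶ Z) (h : X ⟶ Z) (e : f ≫ g = h) :
    Scheme.Modules.pushforward f ⋙ Scheme.Modules.pushforward g ≅ Scheme.Modules.pushforward h :=
  Scheme.Modules.pushforwardComp f g ≪≫ Scheme.Modules.pushforwardCongr e

theorem unit_uc (f : X ⟶ Y) (g : Y ⟶ Z) (h : X ⟶ Z) (e : f ≫ g = h) (K : Z.Modules) :
    (Scheme.Modules.pullbackPushforwardAdjunction g).unit.app K ≫
      (Scheme.Modules.pushforward g).map
        ((Scheme.Modules.pullbackPushforwardAdjunction f).unit.app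
          ((Scheme.Modules.pullback g).obj K)) ≫
        (fc f g h e).hom.app ((Scheme.Modules.pullback f).obj ((Scheme.Modules.pullback g).obj K)) =
      (Scheme.Modules.pullbackPushforwardAdjunction h).unit.app K ≫
        (Scheme.Modules.pushforward h).map ((uc f g h e).hom.app K) := by
  subst e
  have h1 := unit_conjugateEquiv ((Scheme.Modules.pullbackPushforwardAdjunction g).comp
    (Scheme.Modules.pullbackPushforwardAdjunction f))
    (Scheme.Modules.pullbackPushforwardAdjunction (f ≫ g)) (Scheme.Modules.pullbackComp f g).inv K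
  rw [Scheme.Modules.conjugateEquiv_pullbackComp_inv] at h1
  have h2 : (fc f g (f ≫ g) rfl).hom = (Scheme.Modules.pushforwardComp f g).hom := by
    ext M U x
    simp [fc]
  rw [uc_rfl, h2]
  simp only [Adjunction.comp_unit_app, Category.assoc] at h1
  exact h1

end Push

variable {A B C : Type u} [CommRing A] [CommRing B] [CommRing C]

/-- Composition of extensions of scalars. -/
noncomputable def em (φ : A →+* B) (ψ : B →+* C) (χ : A →+* C) (h : χ = ψ.comp φ) :
    ModuleCat.extendScalars.{u, u, u} χ ≅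
      ModuleCat.extendScalars.{u, u, u} φ ⋙ ModuleCat.extendScalars.{u, u, u} ψ :=
  (conjugateIsoEquiv
    ((ModuleCat.extendRestrictScalarsAdj.{u, u, u} φ).comp (ModuleCat.extendRestrictScalarsAdj.{u, u, u} ψ))
    (ModuleCat.extendRestrictScalarsAdj.{u, u, u} χ)).symm
      (ModuleCat.restrictScalarsComp' φ ψ χ h).symm

theorem unit_em (φ : A →+* B) (ψ : B →+* C) (χ : A →+* C) (h : χ = ψ.comp φ) (M : ModuleCat.{u} A) :
    (ModuleCat.extendRestrictScalarsAdj.{u, u, u} φ).unit.app M ≫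
      (ModuleCat.restrictScalars.{u} φ).map
        ((ModuleCat.extendRestrictScalarsAdj.{u, u, u} ψ).unit.app
          ((ModuleCat.extendScalars.{u, u, u} φ).obj M)) ≫
        (ModuleCat.restrictScalarsComp' φ ψ χ h).inv.app ((ModuleCat.extendScalars.{u, u, u} ψ).obj
          ((ModuleCat.extendScalars.{u, u, u} φ).obj M)) =
      (ModuleCat.extendRestrictScalarsAdj.{u, u, u} χ).unit.app M ≫
        (ModuleCat.restrictScalars.{u} χ).map ((em φ ψ χ h).hom.app M) := by
  have h1 := unit_conjugateEquiv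
    ((ModuleCat.extendRestrictScalarsAdj.{u, u, u} φ).comp (ModuleCat.extendRestrictScalarsAdj.{u, u, u} ψ))
    (ModuleCat.extendRestrictScalarsAdj.{u, u, u} χ) (em φ ψ χ h).hom M
  have h2 : conjugateEquiv
    ((ModuleCat.extendRestrictScalarsAdj.{u, u, u} φ).comp (ModuleCat.extendRestrictScalarsAdj.{u, u, u} ψ))
    (ModuleCat.extendRestrictScalarsAdj.{u, u, u} χ) (em φ ψ χ h).hom =
      (ModuleCat.restrictScalarsComp' φ ψ χ h).inv := by
    simp [em]
  rw [h2] at h1
  simp only [Adjunction.comp_unit_app, Category.assoc] at h1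
  exact h1

/-- `M ↦ M~`. -/
noncomputable def TF (A : Type u) [CommRing A] :
    ModuleCat.{u} A ⥤ (Spec (CommRingCat.of A)).Modules := tilde.functor (CommRingCat.of A)

theorem tilde_additive (R : CommRingCat.{u}) : (tilde.functor R).Additive := inferInstance

instance TF_additive (A : Type u) [CommRing A] : (TF A).Additive := tilde_additive (CommRingCat.of A)

/-- Global sections. -/
noncomputable def ΓF (A : Type u) [CommRing A] :
    (Spec (CommRingCat.of A)).Modules ⥤ ModuleCat.{u} A := moduleSpecΓFunctor (R := CommRingCat.of A)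

/-- The adjunction. -/
noncomputable def tAdj (A : Type u) [CommRing A] : TF A ⊣ ΓF A :=
  tilde.adjunction (R := CommRingCat.of A)

/-- `Γ` and direct images. -/
noncomputable def γF (φ : A →+* B) :
    Scheme.Modules.pushforward (Spec.map (CommRingCat.ofHom φ)) ⋙ ΓF A ≅
      ΓF B ⋙ ModuleCat.restrictScalars.{u} φ := pushforwardCompΓIso (CommRingCat.ofHom φ)

/-- The comparison on modules. -/
noncomputable def mI (φ : A →+* B) :
    TF A ⋙ Scheme.Modules.pullback (Spec.map (CommRingCat.ofHom φ)) ≅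
      ModuleCat.extendScalars.{u, u, u} φ ⋙ TF B := tildePullbackIso (CommRingCat.ofHom φ)

theorem mI_eq (φ : A →+* B) : mI φ =
  (((ModuleCat.extendRestrictScalarsAdj.{u, u, u} φ).comp (tAdj B)).ofNatIsoRight
    (γF φ).symm |>.leftAdjointUniq
    ((tAdj A).comp
      (Scheme.Modules.pullbackPushforwardAdjunction (Spec.map (CommRingCat.ofHom φ))))).symm := rfl

theorem hom_apply (φ : A →+* B) (N : (Spec (CommRingCat.of B)).Modules)
    (x : (ΓF A).obj ((Scheme.Modules.pushforward (Spec.map (CommRingCat.ofHom φ))).obj N)) :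
    ((γF φ).hom.app N).hom x = x := rfl

theorem map_fc_apply (φ : A →+* B) (ψ : B →+* C) (χ : A →+* C)
    (e : Spec.map (CommRingCat.ofHom ψ) ≫ Spec.map (CommRingCat.ofHom φ) =
      Spec.map (CommRingCat.ofHom χ)) (N : (Spec (CommRingCat.of C)).Modules)
    (x : (ΓF A).obj ((Scheme.Modules.pushforward (Spec.map (CommRingCat.ofHom φ))).obj
      ((Scheme.Modules.pushforward (Spec.map (CommRingCat.ofHom ψ))).obj N))) :
    ((ΓF A).map ((fc (Spec.map (CommRingCat.ofHom ψ)) (Spec.map (CommRingCat.ofHom φ)) _ e).hom.app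
      N)).hom x = x := by
  have h1 : ((ΓF A).map ((fc (Spec.map (CommRingCat.ofHom ψ)) (Spec.map (CommRingCat.ofHom φ)) _ e).hom.app
      N)).hom x = N.presheaf.map (𝟙 _) x := rfl
  refine h1.trans ?_
  rw [CategoryTheory.Functor.map_id]
  rfl

/-- The right adjoint side of the coherence. -/
theorem gamma_comp (φ : A →+* B) (ψ : B →+* C) (χ : A →+* C) (h : χ = ψ.comp φ)
    (e : Spec.map (CommRingCat.ofHom ψ) ≫ Spec.map (CommRingCat.ofHom φ) =
      Spec.map (CommRingCat.ofHom χ)) (N : (Spec (CommRingCat.of C)).Modules) :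
    (γF φ).hom.app ((Scheme.Modules.pushforward (Spec.map (CommRingCat.ofHom ψ))).obj N) ≫
      (ModuleCat.restrictScalars.{u} φ).map ((γF ψ).hom.app N) ≫
      (ModuleCat.restrictScalarsComp' φ ψ χ h).symm.hom.app ((ΓF C).obj N) =
    (ΓF A).map
      ((fc (Spec.map (CommRingCat.ofHom ψ)) (Spec.map (CommRingCat.ofHom φ)) _ e).hom.app N) ≫
      (γF χ).hom.app N := by
  ext x
  refine (hom_apply ψ N _).trans ?_
  refine (hom_apply φ _ _).trans ?_
  refine Eq.symm ((hom_apply χ N _).trans ?_)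
  exact map_fc_apply φ ψ χ e N x

/-- Coherence of `mI` for composites. -/
theorem tilde_coh (φ : A →+* B) (ψ : B →+* C) (χ : A →+* C) (h : χ = ψ.comp φ)
    (e : Spec.map (CommRingCat.ofHom ψ) ≫ Spec.map (CommRingCat.ofHom φ) =
      Spec.map (CommRingCat.ofHom χ)) (M : ModuleCat.{u} A) :
    (uc (Spec.map (CommRingCat.ofHom ψ)) (Spec.map (CommRingCat.ofHom φ)) _ e).hom.app
        ((TF A).obj M) ≫
      (Scheme.Modules.pullback (Spec.map (CommRingCat.ofHom ψ))).map ((mI φ).hom.app M) ≫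
      (mI ψ).hom.app ((ModuleCat.extendScalars.{u, u, u} φ).obj M) =
    (mI χ).hom.app M ≫ (TF C).map ((em φ ψ χ h).hom.app M) := by
  have h1 := AbsTilde.unit_of_leftAdjointUniq (tAdj A) (tAdj B)
    (ModuleCat.extendRestrictScalarsAdj.{u, u, u} φ)
    (Scheme.Modules.pullbackPushforwardAdjunction (Spec.map (CommRingCat.ofHom φ))) (γF φ) M
  have h2 := AbsTilde.unit_of_leftAdjointUniq (tAdj B) (tAdj C)
    (ModuleCat.extendRestrictScalarsAdj.{u, u, u} ψ)
    (Scheme.Modules.pullbackPushforwardAdjunction (Spec.map (CommRingCat.ofHom ψ))) (γF ψ)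
    ((ModuleCat.extendScalars.{u, u, u} φ).obj M)
  have h3 := AbsTilde.unit_of_leftAdjointUniq (tAdj A) (tAdj C)
    (ModuleCat.extendRestrictScalarsAdj.{u, u, u} χ)
    (Scheme.Modules.pullbackPushforwardAdjunction (Spec.map (CommRingCat.ofHom χ))) (γF χ) M
  rw [← mI_eq] at h1 h2 h3
  exact AbsTilde.abs_mod (tAdj A) (tAdj B) (tAdj C) (ModuleCat.extendRestrictScalarsAdj.{u, u, u} φ)
    (ModuleCat.extendRestrictScalarsAdj.{u, u, u} ψ) (ModuleCat.extendRestrictScalarsAdj.{u, u, u} χ)
    (Scheme.Modules.pullbackPushforwardAdjunction (Spec.map (CommRingCat.ofHom φ)))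
    (Scheme.Modules.pullbackPushforwardAdjunction (Spec.map (CommRingCat.ofHom ψ)))
    (Scheme.Modules.pullbackPushforwardAdjunction (Spec.map (CommRingCat.ofHom χ)))
    (γF φ) (γF ψ) (γF χ) (ModuleCat.restrictScalarsComp' φ ψ χ h).symm
    (fc (Spec.map (CommRingCat.ofHom ψ)) (Spec.map (CommRingCat.ofHom φ)) _ e) M _ _ _ _ _
    h1 h2 h3 (unit_uc _ _ _ e _) (unit_em φ ψ χ h M) (gamma_comp φ ψ χ h e)

/-- The comparison on complexes. -/
noncomputable def mC (φ : A →+* B) (K : CochainComplex (ModuleCat.{u} A) ℤ) :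
    (pc (Spec.map (CommRingCat.ofHom φ))).obj
        (((TF A).mapHomologicalComplex (ComplexShape.up ℤ)).obj K) ⟶
      ((TF B).mapHomologicalComplex (ComplexShape.up ℤ)).obj
        (((ModuleCat.extendScalars.{u, u, u} φ).mapHomologicalComplex (ComplexShape.up ℤ)).obj K) :=
  AbsCx.mk (mI φ).hom K

/-- Composition of extensions of scalars on complexes. -/
noncomputable def emC (φ : A →+* B) (ψ : B →+* C) (χ : A →+* C) (h : χ = ψ.comp φ)
    (K : CochainComplex (ModuleCat.{u} A) ℤ) :
    ((ModuleCat.extendScalars.{u, u, u} χ).mapHomologicalComplex (ComplexShape.up ℤ)).obj K ⟶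
      ((ModuleCat.extendScalars.{u, u, u} ψ).mapHomologicalComplex (ComplexShape.up ℤ)).obj
        (((ModuleCat.extendScalars.{u, u, u} φ).mapHomologicalComplex (ComplexShape.up ℤ)).obj K) :=
  AbsCx.mkE (em φ ψ χ h).hom K

theorem ucC_eq {X Y Z : Scheme.{u}} (f : X ⟶ Y) (g : Y ⟶ Z) (h : X ⟶ Z) (e : f ≫ g = h)
    (K : CochainComplex Z.Modules ℤ) : (ucC f g h e K).hom = AbsCx.mkE (uc f g h e).hom K := rfl

/-- Coherence on complexes. -/
theorem mC_coh (φ : A →+* B) (ψ : B →+* C) (χ : A →+* C) (h : χ = ψ.comp φ)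
    (e : Spec.map (CommRingCat.ofHom ψ) ≫ Spec.map (CommRingCat.ofHom φ) =
      Spec.map (CommRingCat.ofHom χ)) (K : CochainComplex (ModuleCat.{u} A) ℤ) :
    (ucC (Spec.map (CommRingCat.ofHom ψ)) (Spec.map (CommRingCat.ofHom φ)) _ e
        (((TF A).mapHomologicalComplex (ComplexShape.up ℤ)).obj K)).hom ≫
      (pc (Spec.map (CommRingCat.ofHom ψ))).map (mC φ K) ≫
        mC ψ (((ModuleCat.extendScalars.{u, u, u} φ).mapHomologicalComplex (ComplexShape.up ℤ)).obj K) =
    mC χ K ≫ ((TF C).mapHomologicalComplex (ComplexShape.up ℤ)).map (emC φ ψ χ h K) := by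
  rw [ucC_eq]
  exact AbsCx.coh (mI φ).hom (mI ψ).hom (mI χ).hom
    (uc (Spec.map (CommRingCat.ofHom ψ)) (Spec.map (CommRingCat.ofHom φ)) _ e).hom (em φ ψ χ h).hom
    (fun M => tilde_coh φ ψ χ h e M) K

end K294.TildeMod
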