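import Groth.Agent.FlatMor.K294.AbsDer
import Groth.Agent.FlatMor.K294.TildeMod
import Groth.Agent.LoccohB.BCUnit
import Groth.Agent.Models2.RlimPCJ

/-!
# The value of `lbcComp` on complexes
-/

set_option autoImplicit false
universe u

open CategoryTheory CategoryTheory.Limits Opposite DerivedCategory

attribute [local instance] HasDerivedCategory.standard

namespace K294.TildeBC

open Groth.Agent.LoccohB Groth.Agent.LoccohB.LBC Groth.Agent.LoccohB.BCUnit TildeMod

variable {A B C : Type u} [CommRing A] [CommRing B] [CommRing C]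

theorem unit_emC (φ : A →+* B) (ψ : B →+* C) (χ : A →+* C) (h : χ = ψ.comp φ)
    (K : CochainComplex (ModuleCat.{u} A) ℤ) :
    (cxAdj φ).unit.app K ≫ (resCx φ).map ((cxAdj ψ).unit.app ((extCx φ).obj K)) ≫
      (Groth.Agent.Models2.RlimPC.resComp φ ψ χ h).hom.app ((extCx ψ).obj ((extCx φ).obj K)) =
      (cxAdj χ).unit.app K ≫ (resCx χ).map (emC φ ψ χ h K) := by
  ext i : 1
  exact unit_em φ ψ χ h (K.X i)

/-- The value of `lbcComp` on complexes. -/
theorem lbc_fac (φ : A →+* B) (ψ : B →+* C) (χ : A →+* C) (h : χ = ψ.comp φ)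
    [DRing.HasLBaseChange φ] [DRing.HasLBaseChange ψ] [DRing.HasLBaseChange χ]
    (K : CochainComplex (ModuleCat.{u} A) ℤ) :
    (DRing.LBaseChange ψ).map ((lbcQCounit φ).app K) ≫ (lbcQCounit ψ).app ((extCx φ).obj K) =
      (lbcComp φ ψ χ h).hom.app (Q.obj K) ≫ (lbcQCounit χ).app K ≫ Q.map (emC φ ψ χ h K) := by
  refine AbsDer.uniq_fac (lbcAdj φ) (lbcAdj ψ) (lbcAdj χ) (restrictDComp φ ψ χ h)
    ((lbcQCounit φ).app K) ((lbcQCounit ψ).app ((extCx φ).obj K)) ((lbcQCounit χ).app K)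
    (Q.map (emC φ ψ χ h K)) ((resQ φ).hom.app _) ((resQ ψ).hom.app _) ((resQ χ).hom.app _)
    ((resQ χ).hom.app _) ((resQ φ).hom.app _) _ (unit_lbcQCounit φ K) _ (unit_lbcQCounit ψ _) _
    (unit_lbcQCounit χ K) (Q.map ((resCx φ).map ((cxAdj ψ).unit.app ((extCx φ).obj K))))
    ((resQ φ).hom.naturality _).symm
    (Q.map ((Groth.Agent.Models2.RlimPC.resComp φ ψ χ h).hom.app ((extCx ψ).obj ((extCx φ).obj K))))
    (Groth.Agent.Models2.RlimPC.restrictDComp_Q φ ψ χ h _)
    (Q.map ((resCx χ).map (emC φ ψ χ h K))) ((resQ χ).hom.naturality _).symm ?_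
  rw [← Functor.map_comp, ← Functor.map_comp, ← Functor.map_comp, unit_emC]

end K294.TildeBC
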