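import Groth.Agent.FlatMor.K294.TildeS
import Groth.Agent.FlatMor.K294.LbcFac
import Groth.Agent.Sga4h.KProjFun

/-!
# `(K ⊗^L_A B)~ ≅ Lf^*(K~)`, coherently in `A ⟶ B`

* `s φ : tildeD A ⋙ Lpull (Spec φ) ≅ LBaseChange φ ⋙ tildeD B`;
* `s_fac`: its value on complexes;
* `s_coh`: compatibility with `lc` and `lbcComp`.
-/

set_option autoImplicit false
universe u

open AlgebraicGeometry CategoryTheory CategoryTheory.Limits Opposite DerivedCategory

attribute [local instance] HasDerivedCategory.standard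

namespace K294.TildeBC

open Groth.Agent.Ega1.TildePullback Groth.Agent.Fixpt.H906.LPC Groth.Agent.LoccohB
  Groth.Agent.LoccohB.LBC Groth.Agent.LoccohB.BCUnit Groth.Agent.PerfB TildeMod

variable {A B C : Type u} [CommRing A] [CommRing B] [CommRing C]

theorem isKProjective_extCx (φ : A →+* B) (P : CochainComplex (ModuleCat.{u} A) ℤ) [P.IsKProjective] :
    CochainComplex.IsKProjective ((extCx φ).obj P) :=
  Groth.Agent.Sga4h.KProjFun.isKProjective_map (ModuleCat.extendRestrictScalarsAdj.{u, u, u} φ) P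

theorem exists_kproj (E : Dual.D A) : ∃ P : CochainComplex (ModuleCat.{u} A) ℤ, P.IsKProjective ∧
    Nonempty (Q.obj P ≅ E) := by
  obtain ⟨K, ⟨e⟩⟩ : ∃ K : CochainComplex (ModuleCat.{u} A) ℤ, Nonempty (Q.obj K ≅ E) :=
    ⟨_, ⟨Q.objObjPreimageIso E⟩⟩
  obtain ⟨P, p, hP, hp, -, -⟩ := KProj.exists_kprojective K
  have : IsIso (Q.map p) := inferInstance
  exact ⟨P, hP, ⟨asIso (Q.map p) ≪≫ e⟩⟩

section Coh

variable (φ : A →+* B) (ψ : B →+* C) (χ : A →+* C) (h : χ = ψ.comp φ)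
    (e : Spec.map (CommRingCat.ofHom ψ) ≫ Spec.map (CommRingCat.ofHom φ) =
      Spec.map (CommRingCat.ofHom χ))
    [PreservesFiniteLimits (tilde.functor (CommRingCat.of A))]
    [PreservesFiniteLimits (tilde.functor (CommRingCat.of B))]
    [PreservesFiniteLimits (tilde.functor (CommRingCat.of C))]
    [DRing.HasLBaseChange φ] [DRing.HasLBaseChange ψ] [DRing.HasLBaseChange χ]
    [DCoh.HasLpull (Spec.map (CommRingCat.ofHom φ))]
    [DCoh.HasLpull (Spec.map (CommRingCat.ofHom ψ))]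
    [DCoh.HasLpull (Spec.map (CommRingCat.ofHom χ))]

/-- The coherence on K-projective complexes. -/
theorem s_coh_Q (P : CochainComplex (ModuleCat.{u} A) ℤ) [P.IsKProjective] :
    (lc (Spec.map (CommRingCat.ofHom ψ)) (Spec.map (CommRingCat.ofHom φ)) _ e).hom.app
        ((DCoh.tildeD (CommRingCat.of A)).obj (Q.obj P)) ≫
      (DCoh.Lpull (Spec.map (CommRingCat.ofHom ψ))).map ((s φ).hom.app (Q.obj P)) ≫
      (s ψ).hom.app ((DRing.LBaseChange φ).obj (Q.obj P)) =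
    (s χ).hom.app (Q.obj P) ≫
      (DCoh.tildeD (CommRingCat.of C)).map ((lbcComp φ ψ χ h).inv.app (Q.obj P)) := by
  have hP := isKProjective_extCx φ P
  have hl : (lbcComp φ ψ χ h).inv.app (Q.obj P) ≫ (DRing.LBaseChange ψ).map ((lbcQCounit φ).app P) ≫
      (lbcQCounit ψ).app ((extCx φ).obj P) = (lbcQCounit χ).app P ≫ Q.map (emC φ ψ χ h P) := by
    rw [lbc_fac φ ψ χ h P, Iso.inv_hom_id_app_assoc]
  have hi : IsIso (tQ C ((extCx ψ).obj ((extCx φ).obj P))) := isIso_tQ _ _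
  have hi1 : IsIso ((lbcQCounit φ).app P) := isIso_lbcQCounit_app φ P
  have hi2 : IsIso ((lbcQCounit ψ).app ((extCx φ).obj P)) := isIso_lbcQCounit_app ψ _
  have h1 := congrArg (fun t => Q.map t) (mC_coh φ ψ χ h e P)
  simp only [Functor.map_comp] at h1
  exact AbsDer.abs_coh (TA := DCoh.tildeD (CommRingCat.of A)) (TB := DCoh.tildeD (CommRingCat.of B))
    (TC := DCoh.tildeD (CommRingCat.of C)) (LB₁ := DRing.LBaseChange φ) (LB₃ := DRing.LBaseChange χ)
    (s ψ).hom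
    (lc (Spec.map (CommRingCat.ofHom ψ)) (Spec.map (CommRingCat.ofHom φ)) _ e).hom
    ((s φ).hom.app (Q.obj P)) ((s χ).hom.app (Q.obj P)) ((lbcComp φ ψ χ h).inv.app (Q.obj P))
    _ _ _ _ _ (s_fac φ P) _ _ _ _ (s_fac ψ ((extCx φ).obj P)) _ _ _ _ (s_fac χ P)
    _ _ (cn_nat (Spec.map (CommRingCat.ofHom ψ)) (mC φ P)) _ (lc_fac _ _ _ e _) _ h1
    (Q.map (emC φ ψ χ h P)) (tQ_nat C (emC φ ψ χ h P)) hl

/-- Coherence of `s`. -/
theorem s_coh (E : Dual.D A) :
    (lc (Spec.map (CommRingCat.ofHom ψ)) (Spec.map (CommRingCat.ofHom φ))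
        (Spec.map (CommRingCat.ofHom χ)) e).hom.app ((DCoh.tildeD (CommRingCat.of A)).obj E) ≫
      (DCoh.Lpull (Spec.map (CommRingCat.ofHom ψ))).map ((s φ).hom.app E) ≫
      (s ψ).hom.app ((DRing.LBaseChange φ).obj E) =
    (s χ).hom.app E ≫ (DCoh.tildeD (CommRingCat.of C)).map ((lbcComp φ ψ χ h).inv.app E) := by
  obtain ⟨P, hP, ⟨i⟩⟩ := exists_kproj E
  have key := s_coh_Q φ ψ χ h e P
  let α : DCoh.tildeD (CommRingCat.of A) ⋙ DCoh.Lpull (Spec.map (CommRingCat.ofHom χ)) ⟶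
      DRing.LBaseChange φ ⋙ DRing.LBaseChange ψ ⋙ DCoh.tildeD (CommRingCat.of C) :=
    Functor.whiskerLeft _ (lc (Spec.map (CommRingCat.ofHom ψ)) (Spec.map (CommRingCat.ofHom φ))
        (Spec.map (CommRingCat.ofHom χ)) e).hom ≫
      Functor.whiskerRight (s φ).hom (DCoh.Lpull (Spec.map (CommRingCat.ofHom ψ))) ≫
      Functor.whiskerLeft (DRing.LBaseChange φ) (s ψ).hom
  let β : DCoh.tildeD (CommRingCat.of A) ⋙ DCoh.Lpull (Spec.map (CommRingCat.ofHom χ)) ⟶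
      DRing.LBaseChange φ ⋙ DRing.LBaseChange ψ ⋙ DCoh.tildeD (CommRingCat.of C) :=
    (s χ).hom ≫ Functor.whiskerRight (lbcComp φ ψ χ h).inv (DCoh.tildeD (CommRingCat.of C))
  exact AbsDer.app_eq_of_iso α β i key

end Coh

end K294.TildeBC
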