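import Groth.Agent.FlatMor.K294.AbsDer
import Groth.Agent.FlatMor.K294.TildeMod
import Groth.Agent.PerfB.TildeLpull
import Groth.Agent.PerfB.KProjFlat
import Groth.Agent.LoccohB.BCUnit
import Groth.Agent.S1121

/-!
# `s φ : Lf^*(K~) ≅ (K ⊗^L_A B)~` and its value on complexes
-/

set_option autoImplicit false
universe u

open AlgebraicGeometry CategoryTheory CategoryTheory.Limits Opposite DerivedCategory

attribute [local instance] HasDerivedCategory.standard

set_option linter.unusedSectionVars false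

namespace K294.TildeBC

open Groth.Agent.Ega1.TildePullback Groth.Agent.Fixpt.H906.LPC Groth.Agent.LoccohB
  Groth.Agent.LoccohB.LBC Groth.Agent.LoccohB.BCUnit Groth.Agent.PerfB TildeMod

theorem abs_h {D : Type*} [Category D] {a b c d : D} (x : a ⟶ b) (t : b ⟶ c) (i : c ⟶ d)
    (j : d ⟶ c) (h : i ≫ j = 𝟙 _) : x ≫ t = (x ≫ t ≫ i ≫ 𝟙 _) ≫ j := by
  simp [h]

theorem abs_h' {D : Type*} [Category D] {a b c d : D} (x : b ⟶ a) (y : a ⟶ b) (t : b ⟶ c) (f : a ⟶ d)
    (i : c ⟶ d) (j : d ⟶ c) (h : j ≫ i = 𝟙 _) (h' : x ≫ y = 𝟙 _) (e : y ≫ t = f ≫ j) :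
    x ≫ f = t ≫ i := by
  have h1 : x ≫ f = x ≫ (f ≫ j) ≫ i := by rw [Category.assoc, h, Category.comp_id]
  rw [h1, ← e, Category.assoc, reassoc_of% h']

theorem abs_c₁ {D : Type*} [Category D] {x₀ x₁ x₂ : D} (a : x₀ ⟶ x₁) (b : x₁ ⟶ x₂) (c : x₂ ⟶ x₂)
    (hc : c = 𝟙 _) : 𝟙 _ ≫ a ≫ 𝟙 _ ≫ b ≫ 𝟙 _ ≫ c = a ≫ b := by
  simp [hc]

theorem abs_c₂ {D : Type*} [Category D] {x₀ x₁ x₂ x₃ : D} (a : x₀ ⟶ x₁) (b : x₁ ⟶ x₂) (c : x₂ ⟶ x₃) :
    𝟙 _ ≫ a ≫ 𝟙 _ ≫ b ≫ 𝟙 _ ≫ c = a ≫ b ≫ c := by
  simp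

section R

variable (R : CommRingCat.{u}) [PreservesFiniteLimits (tilde.functor R)]

/-- `(Q K)~ ⟶ Q (K~)`. -/
noncomputable def tQR (K : CochainComplex (ModuleCat.{u} R) ℤ) :
    (DCoh.tildeD R).obj (Q.obj K) ⟶
      Q.obj (((tilde.functor R).mapHomologicalComplex (ComplexShape.up ℤ)).obj K) :=
  (tilde.functor R).mapDerivedCategoryFactors.hom.app K

theorem tQR_nat {K L : CochainComplex (ModuleCat.{u} R) ℤ} (f : K ⟶ L) :
    (DCoh.tildeD R).map (Q.map f) ≫ tQR R L =
      tQR R K ≫ Q.map (((tilde.functor R).mapHomologicalComplex (ComplexShape.up ℤ)).map f) :=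
  (tilde.functor R).mapDerivedCategoryFactors.hom.naturality f

theorem isIso_tQR (K : CochainComplex (ModuleCat.{u} R) ℤ) : IsIso (tQR R K) := by
  unfold tQR
  infer_instance

/-- `(Qh X)~ ⟶ Qh (X~)`. -/
noncomputable def fhR (X : HomotopyCategory (ModuleCat.{u} R) (ComplexShape.up ℤ)) :
    (DCoh.tildeD R).obj (Qh.obj X) ⟶
      Qh.obj (((tilde.functor R).mapHomotopyCategory (ComplexShape.up ℤ)).obj X) :=
  (tilde.functor R).mapDerivedCategoryFactorsh.hom.app X

theorem fh_QR (K : CochainComplex (ModuleCat.{u} R) ℤ) :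
    (DCoh.tildeD R).map ((quotientCompQhIso _).hom.app K) ≫ tQR R K =
      fhR R ((HomotopyCategory.quotient _ _).obj K) ≫
        (quotientCompQhIso _).hom.app
          (((tilde.functor R).mapHomologicalComplex (ComplexShape.up ℤ)).obj K) := by
  have h : fhR R ((HomotopyCategory.quotient _ _).obj K) = _ :=
    (tilde.functor R).mapDerivedCategoryFactorsh_hom_app K
  have h1 : (Qh (C := (Spec R).Modules)).map
      (((tilde.functor R).mapHomotopyCategoryFactors (ComplexShape.up ℤ)).inv.app K) = 𝟙 _ :=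
    CategoryTheory.Functor.map_id _ _
  have h2 : (quotientCompQhIso (Spec R).Modules).inv.app
      (((tilde.functor R).mapHomologicalComplex (ComplexShape.up ℤ)).obj K) ≫
    (quotientCompQhIso (Spec R).Modules).hom.app
      (((tilde.functor R).mapHomologicalComplex (ComplexShape.up ℤ)).obj K) = 𝟙 _ :=
    Iso.inv_hom_id_app _ _
  rw [h, h1]
  exact abs_h _ _ _ _ h2

variable {R} {S : CommRingCat.{u}} (φ : R ⟶ S) [PreservesFiniteLimits (tilde.functor S)]

theorem compIso_refl_app (K : CochainComplex (ModuleCat.{u} R) ℤ) :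
    (Functor.mapHomotopyCategoryCompIso (Iso.refl (ModuleCat.extendScalars.{u, u, u} φ.hom ⋙
      tilde.functor S)) (ComplexShape.up ℤ)).hom.app
        ((HomotopyCategory.quotient _ _).obj K) = 𝟙 _ := by
  have h : (Functor.mapHomologicalComplexCompIso (Iso.refl (ModuleCat.extendScalars.{u, u, u} φ.hom ⋙
      tilde.functor S)) (ComplexShape.up ℤ)).hom.app K = 𝟙 _ := by
    ext i : 1
    rfl
  exact (congrArg (fun t => (HomotopyCategory.quotient _ _).map t) h).trans
    ((HomotopyCategory.quotient _ _).map_id _)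

theorem counit₁_app [DRing.HasLBaseChange φ.hom] (K : CochainComplex (ModuleCat.{u} R) ℤ) :
    (TildeLpull.counit₁ φ).app ((HomotopyCategory.quotient _ _).obj K) =
      (DCoh.tildeD S).map ((lbcCounit φ.hom).app ((HomotopyCategory.quotient _ _).obj K)) ≫
        fhR S ((HomotopyCategory.quotient _ _).obj ((extCx φ.hom).obj K)) := by
  dsimp only [TildeLpull.counit₁, NatTrans.comp_app, Functor.whiskerRight_app, Functor.whiskerLeft_app,
    Functor.associator_hom_app, Functor.associator_inv_app]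
  have h := congrArg (fun t => (Qh (C := (Spec S).Modules)).map t) (compIso_refl_app φ K)
  exact abs_c₁ _ _ _ (h.trans ((Qh (C := (Spec S).Modules)).map_id _))

theorem counit₂_app [DCoh.HasLpull (Spec.map φ)] (K : CochainComplex (ModuleCat.{u} R) ℤ) :
    (TildeLpull.counit₂ φ).app ((HomotopyCategory.quotient _ _).obj K) =
      (DCoh.Lpull (Spec.map φ)).map (fhR R ((HomotopyCategory.quotient _ _).obj K)) ≫
        (TildeLpull.lpullCounit (Spec.map φ)).app ((HomotopyCategory.quotient _ _).obj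
          (((tilde.functor R).mapHomologicalComplex (ComplexShape.up ℤ)).obj K)) ≫
        Qh.map ((TildeLpull.modIsoK φ).hom.app ((HomotopyCategory.quotient _ _).obj K)) := by
  dsimp only [TildeLpull.counit₂, NatTrans.comp_app, Functor.whiskerRight_app, Functor.whiskerLeft_app,
    Functor.associator_hom_app, Functor.associator_inv_app]
  exact abs_c₂ _ _ _

end R

section Typed

/-- The sheafified complex. -/
noncomputable abbrev tCx (A : Type u) [CommRing A] :
    CochainComplex (ModuleCat.{u} A) ℤ ⥤ CochainComplex (Spec (CommRingCat.of A)).Modules ℤ :=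
  (TF A).mapHomologicalComplex (ComplexShape.up ℤ)

variable (A : Type u) [CommRing A] [PreservesFiniteLimits (tilde.functor (CommRingCat.of A))]

/-- `(Q K)~ ⟶ Q (K~)`. -/
noncomputable def tQ (K : CochainComplex (ModuleCat.{u} A) ℤ) :
    (DCoh.tildeD (CommRingCat.of A)).obj (Q.obj K) ⟶ Q.obj ((tCx A).obj K) :=
  tQR (CommRingCat.of A) K

theorem tQ_nat {K L : CochainComplex (ModuleCat.{u} A) ℤ} (f : K ⟶ L) :
    (DCoh.tildeD (CommRingCat.of A)).map (Q.map f) ≫ tQ A L = tQ A K ≫ Q.map ((tCx A).map f) :=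
  tQR_nat (CommRingCat.of A) f

theorem isIso_tQ (K : CochainComplex (ModuleCat.{u} A) ℤ) : IsIso (tQ A K) :=
  isIso_tQR (CommRingCat.of A) K

/-- `(Qh X)~ ⟶ Qh (X~)`. -/
noncomputable def fh (X : HomotopyCategory (ModuleCat.{u} A) (ComplexShape.up ℤ)) :
    (DCoh.tildeD (CommRingCat.of A)).obj (Qh.obj X) ⟶
      Qh.obj (((TF A).mapHomotopyCategory (ComplexShape.up ℤ)).obj X) :=
  fhR (CommRingCat.of A) X

theorem fh_Q (K : CochainComplex (ModuleCat.{u} A) ℤ) :
    (DCoh.tildeD (CommRingCat.of A)).map ((quotientCompQhIso _).hom.app K) ≫ tQ A K =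
      fh A ((HomotopyCategory.quotient _ _).obj K) ≫ (quotientCompQhIso _).hom.app ((tCx A).obj K) :=
  fh_QR (CommRingCat.of A) K

theorem fh_Q' (K : CochainComplex (ModuleCat.{u} A) ℤ) :
    (DCoh.tildeD (CommRingCat.of A)).map ((quotientCompQhIso _).inv.app K) ≫
      fh A ((HomotopyCategory.quotient _ _).obj K) =
      tQ A K ≫ (quotientCompQhIso _).inv.app ((tCx A).obj K) := by
  have h2 : (quotientCompQhIso (Spec (CommRingCat.of A)).Modules).hom.app ((tCx A).obj K) ≫
    (quotientCompQhIso (Spec (CommRingCat.of A)).Modules).inv.app ((tCx A).obj K) = 𝟙 _ :=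
    Iso.hom_inv_id_app _ _
  have h3 : (DCoh.tildeD (CommRingCat.of A)).map ((quotientCompQhIso (ModuleCat.{u} A)).inv.app K) ≫
      (DCoh.tildeD (CommRingCat.of A)).map ((quotientCompQhIso (ModuleCat.{u} A)).hom.app K) = 𝟙 _ := by
    rw [← Functor.map_comp, Iso.inv_hom_id_app, CategoryTheory.Functor.map_id]
  exact abs_h' _ _ _ _ _ _ h2 h3 (fh_Q A K)

end Typed

variable {A B C : Type u} [CommRing A] [CommRing B] [CommRing C]

section S

variable (φ : A →+* B) [PreservesFiniteLimits (tilde.functor (CommRingCat.of A))]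
  [PreservesFiniteLimits (tilde.functor (CommRingCat.of B))] [DRing.HasLBaseChange φ]
  [DCoh.HasLpull (Spec.map (CommRingCat.ofHom φ))]

theorem isIso_lpullCounit_tilde (P : CochainComplex (ModuleCat.{u} A) ℤ) [P.IsKProjective] :
    IsIso ((TildeLpull.lpullCounit (Spec.map (CommRingCat.ofHom φ))).app
      ((HomotopyCategory.quotient _ _).obj
        (((tilde.functor (CommRingCat.of A)).mapHomologicalComplex (ComplexShape.up ℤ)).obj P))) := by
  refine Groth.Agent.Dcoh.DerPull.isIso_lpullCounit_app _ _ ?_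
  exact Groth.Agent.S1121.result (CommRingCat.of A) P (Groth.Agent.PerfB.KProjFlat.isZero_homology_tensor
    (Groth.Agent.PerfB.KProjFlat.kfl_of_isKProjective P))

theorem isLD₁ : (DRing.LBaseChange φ ⋙ DCoh.tildeD (CommRingCat.of B)).IsLeftDerivedFunctor
    (TildeLpull.counit₁ (CommRingCat.ofHom φ))
    (HomotopyCategory.quasiIso (ModuleCat.{u} A) (ComplexShape.up ℤ)) :=
  KDer.isLeftDerivedFunctor_of_isIso _ (KDer.enoughKProjectives_moduleCat A)
    (TildeLpull.counit₁ (CommRingCat.ofHom φ))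
    (fun P _ => TildeLpull.isIso_counit₁ (CommRingCat.ofHom φ) P)

theorem isLD₂ : (DCoh.tildeD (CommRingCat.of A) ⋙
    DCoh.Lpull (Spec.map (CommRingCat.ofHom φ))).IsLeftDerivedFunctor
    (TildeLpull.counit₂ (CommRingCat.ofHom φ))
    (HomotopyCategory.quasiIso (ModuleCat.{u} A) (ComplexShape.up ℤ)) :=
  KDer.isLeftDerivedFunctor_of_isIso _ (KDer.enoughKProjectives_moduleCat A)
    (TildeLpull.counit₂ (CommRingCat.ofHom φ))
    (fun P _ => TildeLpull.isIso_counit₂ (CommRingCat.ofHom φ) P (isIso_lpullCounit_tilde φ P))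

/-- The comparison `Lf^*(K~) ≅ (K ⊗^L_A B)~`. -/
noncomputable def s : DCoh.tildeD (CommRingCat.of A) ⋙ DCoh.Lpull (Spec.map (CommRingCat.ofHom φ)) ≅
    DRing.LBaseChange φ ⋙ DCoh.tildeD (CommRingCat.of B) :=
  haveI := isLD₁ φ
  haveI := isLD₂ φ
  Functor.leftDerivedUnique _ _ (TildeLpull.counit₂ (CommRingCat.ofHom φ))
    (TildeLpull.counit₁ (CommRingCat.ofHom φ))
    (HomotopyCategory.quasiIso (ModuleCat.{u} A) (ComplexShape.up ℤ))

theorem s_fac_Qh (X : HomotopyCategory (ModuleCat.{u} A) (ComplexShape.up ℤ)) :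
    (s φ).hom.app (Qh.obj X) ≫ (TildeLpull.counit₁ (CommRingCat.ofHom φ)).app X =
      (TildeLpull.counit₂ (CommRingCat.ofHom φ)).app X := by
  have := isLD₁ φ
  have := isLD₂ φ
  have h := Functor.leftDerivedNatTrans_app (DCoh.tildeD (CommRingCat.of A) ⋙
    DCoh.Lpull (Spec.map (CommRingCat.ofHom φ))) (DRing.LBaseChange φ ⋙ DCoh.tildeD (CommRingCat.of B))
    (TildeLpull.counit₂ (CommRingCat.ofHom φ)) (TildeLpull.counit₁ (CommRingCat.ofHom φ))
    (HomotopyCategory.quasiIso (ModuleCat.{u} A) (ComplexShape.up ℤ)) (𝟙 _) X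
  exact h.trans (Category.comp_id _)

theorem s_fac_q (K : CochainComplex (ModuleCat.{u} A) ℤ) :
    (s φ).hom.app (Qh.obj ((HomotopyCategory.quotient _ _).obj K)) ≫
      (DCoh.tildeD (CommRingCat.of B)).map ((lbcCounit φ).app ((HomotopyCategory.quotient _ _).obj K)) ≫
        fh B ((HomotopyCategory.quotient _ _).obj ((extCx φ).obj K)) =
      (DCoh.Lpull (Spec.map (CommRingCat.ofHom φ))).map (fh A ((HomotopyCategory.quotient _ _).obj K)) ≫
        (TildeLpull.lpullCounit (Spec.map (CommRingCat.ofHom φ))).app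
          ((HomotopyCategory.quotient _ _).obj ((tCx A).obj K)) ≫
        Qh.map ((HomotopyCategory.quotient _ _).map (mC φ K)) := by
  have h := s_fac_Qh φ ((HomotopyCategory.quotient _ _).obj K)
  rw [counit₁_app (CommRingCat.ofHom φ) K, counit₂_app (CommRingCat.ofHom φ) K] at h
  exact h

theorem lbcQCounit_eq (K : CochainComplex (ModuleCat.{u} A) ℤ) :
    (lbcQCounit φ).app K = (DRing.LBaseChange φ).map ((quotientCompQhIso _).inv.app K) ≫
      (lbcCounit φ).app ((HomotopyCategory.quotient _ _).obj K) ≫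
      (quotientCompQhIso _).hom.app ((extCx φ).obj K) := by
  have h4 : (Qh (C := ModuleCat.{u} B)).map (((ModuleCat.extendScalars.{u, u, u} φ).mapHomotopyCategoryFactors
    (ComplexShape.up ℤ)).hom.app K) = 𝟙 _ := CategoryTheory.Functor.map_id _ _
  dsimp only [lbcQCounit, NatTrans.comp_app, Functor.whiskerRight_app, Functor.whiskerLeft_app,
    Functor.associator_hom_app, Functor.associator_inv_app]
  rw [h4]
  simp only [Category.id_comp]
  rfl

/-- The value of `s` on complexes. -/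
theorem s_fac (K : CochainComplex (ModuleCat.{u} A) ℤ) :
    (s φ).hom.app (Q.obj K) ≫ (DCoh.tildeD (CommRingCat.of B)).map ((lbcQCounit φ).app K) ≫
        tQ B ((extCx φ).obj K) =
      (DCoh.Lpull (Spec.map (CommRingCat.ofHom φ))).map (tQ A K) ≫
        cn (Spec.map (CommRingCat.ofHom φ)) ((tCx A).obj K) ≫ Q.map (mC φ K) := by
  refine AbsDer.abs_fac (TA := DCoh.tildeD (CommRingCat.of A)) (TB := DCoh.tildeD (CommRingCat.of B))
    (LP := DCoh.Lpull (Spec.map (CommRingCat.ofHom φ))) (LB := DRing.LBaseChange φ)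
    ((quotientCompQhIso _).inv.app K) ((lbcCounit φ).app ((HomotopyCategory.quotient _ _).obj K))
    ((quotientCompQhIso _).hom.app ((extCx φ).obj K)) _ (lbcQCounit_eq φ K)
    (fh B ((HomotopyCategory.quotient _ _).obj ((extCx φ).obj K))) (tQ _ _)
    ((quotientCompQhIso _).hom.app ((tCx B).obj ((extCx φ).obj K)))
    (fh_Q B _) (fh A ((HomotopyCategory.quotient _ _).obj K)) (tQ _ _)
    ((quotientCompQhIso _).inv.app ((tCx A).obj K)) (fh_Q' A _)
    ((TildeLpull.lpullCounit (Spec.map (CommRingCat.ofHom φ))).app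
      ((HomotopyCategory.quotient _ _).obj ((tCx A).obj K)))
    ((quotientCompQhIso _).hom.app ((pc (Spec.map (CommRingCat.ofHom φ))).obj ((tCx A).obj K)))
    _ ?_ (Qh.map ((HomotopyCategory.quotient _ _).map (mC φ K))) _ ?_ _
    ((s φ).hom.app (Qh.obj ((HomotopyCategory.quotient _ _).obj K))) ?_ (s_fac_q φ K)
  · exact Groth.Agent.Dcoh.DerComp.counitQ_app _ _ _ _
  · exact (quotientCompQhIso (Spec (CommRingCat.of B)).Modules).hom.naturality (mC φ K)
  · exact ((s φ).hom.naturality _).symm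

end S

end K294.TildeBC
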